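/-
The 27-dimensional representation of the Steinberg group of type E6.

* `T27`     : the cubic form on 27 numbered coordinates;
* `xu`      : the root elements, with `T27_xu` (they preserve the form);
* `stMap`   : the homomorphism of the Steinberg group.
-/
import Mathlib
import Cfsg.Prelude.Def_Steinberg
import Cfsg.Prelude.Def_ChevE6
import Cfsg.Agent.Lib.E6Cubic.Data

set_option autoImplicit false
set_option maxRecDepth 100000

namespace Cfsg.Agent.E6Cubic

open Cfsg.Lie Cfsg.Lie.ChevalleyDatum Matrix

/-- The 27 numbered coordinates. -/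
abbrev I := Fin 27

/-- A number as a coordinate. -/
def fI (n : ℕ) : I := ⟨n % 27, Nat.mod_lt _ (by omega)⟩

/-- The monomials. -/
def mons : List (ℤ × I × I × I) := monList.map fun m => (m.1, fI m.2.1, fI m.2.2.1, fI m.2.2.2)

/-- A column of a root operator. -/
def col (r : ℕ) (j : I) : Option (I × ℤ) :=
  let c := (colTab.getD r 0 >>> (6 * j.val)) % 64
  if c = 0 then none else some (fI ((c - 1) / 2), if (c - 1) % 2 = 0 then 1 else -1)

/-- A row of a root operator. -/
def row (r : ℕ) (i : I) : Option (I × ℤ) := if r < 72 then col (chevE6.neg r) i else none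

/-- The entry of a sparse vector. -/
def coef : Option (I × ℤ) → I → ℤ
  | none, _ => 0
  | some (k, σ), i => if k = i then σ else 0

/-- A column of a product of two root operators. -/
def comp (r s : ℕ) (j : I) : Option (I × ℤ) :=
  (col s j).bind fun p => (col r p.1).map fun p' => (p'.1, p'.2 * p.2)

/-- The matrix of a root operator over the integers. -/
def emZ (r : ℕ) : Matrix I I ℤ := Matrix.of fun i j => coef (col r j) i

theorem emZ_mul (r s : ℕ) (i j : I) : (emZ r * emZ s) i j = coef (comp r s j) i := by
  simp only [Matrix.mul_apply, emZ, Matrix.of_apply, comp]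
  cases h : col s j with
  | none => simp [coef]
  | some p =>
    obtain ⟨k, σ⟩ := p
    rw [Finset.sum_eq_single k]
    · cases h' : col r k with
      | none => simp [coef, h']
      | some p' =>
        obtain ⟨i', τ⟩ := p'
        simp only [coef, Option.bind_some, Option.map_some, h', ↓reduceIte]
        split_ifs <;> simp
    · intro b _ hb; simp [coef, Ne.symm hb]
    · simp

/-! ### The checks -/

/-- The product of two root operators vanishes. -/
def zeroB (r s : ℕ) : Bool := (List.finRange 27).all fun j => (comp r s j).isNone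

/-- The rows to inspect. -/
def cands (a b c : Option (I × ℤ)) : List I := [a, b, c].filterMap (Option.map Prod.fst)

/-- `S R = R S - c Q` columnwise. -/
def bracketB (r s q : ℕ) (c : ℤ) : Bool :=
  (List.finRange 27).all fun j => (cands (comp s r j) (comp r s j) (col q j)).all fun i =>
    coef (comp s r j) i == coef (comp r s j) i - c * coef (col q j) i

/-- The commutator relation of two roots. -/
def relB (r s : ℕ) : Bool :=
  match chevE6.commTerms r s with
  | [] => (List.finRange 27).all fun j => comp s r j == comp r s j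
  | [(q, c, 1, 1)] => bracketB r s q c && zeroB r q && zeroB s q && decide (q < 72)
  | _ => false

/-- `R (-R) R = R` and `R² = 0`. -/
def rankOneB (r : ℕ) : Bool :=
  zeroB r r && decide (chevE6.neg r < 72) && (List.finRange 27).all fun j =>
    ((col r j).bind fun p => (comp r (chevE6.neg r) p.1).map fun p' => (p'.1, p'.2 * p.2)) == col r j

theorem rel_ok : ∀ r < 72, ∀ s < 72, s ≠ r → s ≠ chevE6.neg r → relB r s = true := by decide +kernel

theorem rankOne_ok : ∀ r < 72, rankOneB r = true ∧ chevE6.neg (chevE6.neg r) = r := by decide +kernel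

theorem row_ok : ∀ r < 72, ∀ i : I, (∀ p ∈ row r i, coef (col r p.1) i = p.2) ∧
    ∀ p ∈ col r i, coef (row r p.1) i = p.2 := by
  decide +kernel

theorem nroots_E6 : chevE6.nroots = 72 := by decide +kernel

theorem zeroB_sound {r s : ℕ} (h : zeroB r s = true) : emZ r * emZ s = 0 := by
  ext i j
  rw [emZ_mul, Matrix.zero_apply]
  simp only [zeroB, List.all_eq_true, Option.isNone_iff_eq_none] at h
  rw [h j (List.mem_finRange j), coef]

theorem coef_eq_zero {a : Option (I × ℤ)} {i : I} (h : ∀ p ∈ a, p.1 ≠ i) : coef a i = 0 := by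
  rcases a with _ | ⟨k, σ⟩
  · rfl
  · simp [coef, h (k, σ) rfl]

theorem bracketB_sound {r s q : ℕ} {c : ℤ} (h : bracketB r s q c = true) :
    emZ s * emZ r = emZ r * emZ s - c • emZ q := by
  ext i j
  simp only [Matrix.sub_apply, Matrix.smul_apply, smul_eq_mul, emZ_mul]
  simp only [emZ, Matrix.of_apply]
  simp only [bracketB, List.all_eq_true, beq_iff_eq] at h
  by_cases hi : i ∈ cands (comp s r j) (comp r s j) (col q j)
  · exact h j (List.mem_finRange j) i hi
  · simp only [cands, List.mem_filterMap, Option.map_eq_some_iff, not_exists, not_and] at hi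
    rw [coef_eq_zero fun p hp => hi (comp s r j) (by simp) p hp,
      coef_eq_zero fun p hp => hi (comp r s j) (by simp) p hp,
      coef_eq_zero fun p hp => hi (col q j) (by simp) p hp]
    ring

theorem emZ_out {r : ℕ} (hr : 72 ≤ r) : emZ r = 0 := by
  ext i j
  have : colTab.getD r 0 = 0 := List.getD_eq_default _ _ (by simpa [colTab] using hr)
  show coef (col r j) i = 0
  rw [col, this]
  simp [coef]

theorem col_ne {r : ℕ} {j : I} {p : I × ℤ} (h : p ∈ col r j) : p.2 ≠ 0 := by
  unfold col at h
  dsimp only at h
  split at h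
  · cases h
  · cases h
    dsimp only
    split_ifs <;> decide

theorem row_eq (r : ℕ) (i j : I) : emZ r i j = coef (row r i) j := by
  by_cases hr : r < 72
  · simp only [emZ, Matrix.of_apply]
    rcases h : row r i with _ | ⟨k, σ⟩
    · refine coef_eq_zero fun p hp e => ?_
      have := (row_ok r hr j).2 p hp
      rw [e, h, coef] at this
      exact col_ne hp this.symm
    · have := (row_ok r hr i).1 (k, σ) h
      by_cases hj : k = j
      · subst hj; simpa [coef] using this
      · rw [coef, if_neg hj]
        refine coef_eq_zero fun p hp e => ?_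
        have := (row_ok r hr j).2 p hp
        rw [e, h, coef, if_neg hj] at this
        exact col_ne hp this.symm
  · rw [emZ_out (not_lt.1 hr), row, if_neg hr, coef, Matrix.zero_apply]

/-! ### Over a field -/

variable {F : Type*} [Field F]

/-- The matrix of a root operator. -/
def em (F : Type*) [Field F] (r : ℕ) : Matrix I I F := (Int.castRingHom F).mapMatrix (emZ r)

/-- The matrix of a root element. -/
def xm (r : ℕ) (t : F) : Matrix I I F := 1 + t • em F r

theorem em_sq (r : ℕ) : em F r * em F r = 0 := by
  rw [em, ← map_mul]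
  by_cases hr : r < 72
  · have h := (rankOne_ok r hr).1
    simp only [rankOneB, Bool.and_eq_true] at h
    rw [zeroB_sound h.1.1, map_zero]
  · rw [emZ_out (not_lt.1 hr), mul_zero, map_zero]

theorem xm_mul (r : ℕ) (t u : F) : xm r t * xm r u = xm r (t + u) := by
  simp only [xm, add_mul, mul_add, one_mul, mul_one, smul_mul_assoc, mul_smul_comm, em_sq, smul_zero]
  module

/-- The root elements. -/
def xu (r : ℕ) (t : F) : GL I F :=
  ⟨xm r t, xm r (-t), by rw [xm_mul, add_neg_cancel, xm, zero_smul, add_zero],
    by rw [xm_mul, neg_add_cancel, xm, zero_smul, add_zero]⟩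

theorem xu_add (r : ℕ) (t u : F) : xu r t * xu r u = xu r (t + u) := Units.ext (xm_mul r t u)

theorem xu_out {r : ℕ} (hr : 72 ≤ r) (t : F) : xu r t = 1 :=
  Units.ext (by show xm r t = 1; rw [xm, em, emZ_out hr, map_zero, smul_zero, add_zero])

theorem xm_comm {r s : ℕ} (h : relB r s = true) (t u : F) :
    xm s u * xm r t = xm r t * xm s u * ((chevE6.commWord F r s t u).map fun p => xm p.1 p.2).prod := by
  unfold relB at h
  split at h
  · rename_i e
    simp only [List.all_eq_true, beq_iff_eq] at h
    have hc : em F s * em F r = em F r * em F s := by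
      rw [em, em, ← map_mul, ← map_mul]
      congr 1
      ext i j
      rw [emZ_mul, emZ_mul, h j (List.mem_finRange j)]
    simp only [ChevalleyDatum.commWord, e, List.map_nil, List.prod_nil, mul_one, xm, add_mul, mul_add, one_mul,
      smul_mul_assoc, mul_smul_comm, hc]
    module
  · rename_i q c e
    simp only [Bool.and_eq_true] at h
    obtain ⟨⟨⟨hb, hrq⟩, hsq⟩, -⟩ := h
    have h1 : em F s * em F r = em F r * em F s - (c : F) • em F q := by
      rw [em, em, em, ← map_mul, bracketB_sound hb, map_sub, map_mul, map_zsmul, Int.cast_smul_eq_zsmul]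
    have h2 : em F r * em F q = 0 := by rw [em, em, ← map_mul, zeroB_sound hrq, map_zero]
    have h3 : em F s * em F q = 0 := by rw [em, em, ← map_mul, zeroB_sound hsq, map_zero]
    simp only [ChevalleyDatum.commWord, e, List.map_cons, List.map_nil, List.prod_cons, List.prod_nil, mul_one,
      pow_one, xm, add_mul, mul_add, one_mul, smul_mul_assoc, mul_smul_comm, mul_assoc, h1, h2, h3, mul_zero,
      smul_zero, add_zero]
    module
  · exact absurd h (by simp)

/-- `n_r(t)`. -/
def nm (r : ℕ) (t : F) : Matrix I I F := xm r t * xm (chevE6.neg r) (-t⁻¹) * xm r t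

/-- `h_r(t)`. -/
def hm (r : ℕ) (t : F) : Matrix I I F := nm r t * nm r (-1)

theorem em_triple {r : ℕ} (hr : r < 72) : em F r * em F (chevE6.neg r) * em F r = em F r := by
  rw [em, em, ← map_mul, ← map_mul, mul_assoc]
  congr 1
  ext i j
  have h := (rankOne_ok r hr).1
  simp only [rankOneB, Bool.and_eq_true, List.all_eq_true, beq_iff_eq] at h
  rw [← mul_assoc, Matrix.mul_apply]
  show _ = coef (col r j) i
  rw [← h.2 j (List.mem_finRange j)]
  cases e : col r j with
  | none => simp [emZ, e, coef]
  | some p =>
    obtain ⟨k, σ⟩ := p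
    rw [Finset.sum_eq_single k]
    · rw [emZ_mul]
      simp only [emZ, Matrix.of_apply, e, coef, ↓reduceIte, Option.bind_some]
      rcases e' : comp r (chevE6.neg r) k with _ | ⟨i', τ⟩
      · simp [coef]
      · simp only [coef, Option.map_some]; split_ifs <;> simp
    · intro b _ hb; simp [emZ, e, coef, Ne.symm hb]
    · simp

section algebra

variable {M : Type*} [Ring M] [Algebra F M] {A S : M} (hA : A * A = 0) (hS : S * S = 0) (hASA : A * S * A = A)
  (hSAS : S * A * S = S)
include hA hS hASA hSAS

theorem products : A * S * (A * S) = A * S ∧ S * A * (S * A) = S * A ∧ A * S * (S * A) = 0 ∧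
    S * A * (A * S) = 0 ∧ A * (A * S) = 0 ∧ A * (S * A) = A ∧ S * (S * A) = 0 ∧ S * (A * S) = S ∧
    A * S * S = 0 ∧ S * A * A = 0 := by
  refine ⟨by rw [← mul_assoc, hASA], by rw [← mul_assoc, hSAS], ?_, ?_, by rw [← mul_assoc, hA, zero_mul],
    by rw [← mul_assoc, hASA], by rw [← mul_assoc, hS, zero_mul], by rw [← mul_assoc, hSAS],
    by rw [mul_assoc, hS, mul_zero], by rw [mul_assoc, hA, mul_zero]⟩
  · rw [mul_assoc, ← mul_assoc S S A, hS, zero_mul, mul_zero]
  · rw [mul_assoc, ← mul_assoc A A S, hA, zero_mul, mul_zero]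

theorem n_alg {u : F} (hu : u ≠ 0) :
    (1 + u • A) * (1 + (-u⁻¹) • S) * (1 + u • A) = 1 - A * S - S * A + u • A - u⁻¹ • S := by
  simp only [add_mul, mul_add, one_mul, mul_one, smul_mul_assoc, mul_smul_comm, hA, hASA, smul_zero, add_zero]
  match_scalars <;> field_simp <;> ring

theorem h_alg {t : F} :
    (1 - A * S - S * A + t • A - t⁻¹ • S) * (1 - A * S - S * A + (-1 : F) • A - (-1 : F)⁻¹ • S) =
      1 + (t - 1) • (A * S) + (t⁻¹ - 1) • (S * A) := by
  obtain ⟨e1, e2, e3, e4, e5, e6, e7, e8, e11, e12⟩ := products hA hS hASA hSAS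
  simp only [add_mul, mul_add, sub_mul, mul_sub, one_mul, mul_one, smul_mul_assoc, mul_smul_comm,
    e1, e2, e3, e4, e5, e6, e7, e8, hASA, hSAS, e11, e12, hA, hS, smul_zero]
  match_scalars <;> simp <;> ring

theorem h_mul_alg {t u : F} (ht : t ≠ 0) (hu : u ≠ 0) :
    (1 + (t - 1) • (A * S) + (t⁻¹ - 1) • (S * A)) * (1 + (u - 1) • (A * S) + (u⁻¹ - 1) • (S * A)) =
      1 + (t * u - 1) • (A * S) + ((t * u)⁻¹ - 1) • (S * A) := by
  obtain ⟨e1, e2, e3, e4, -⟩ := products hA hS hASA hSAS
  simp only [add_mul, mul_add, one_mul, mul_one, smul_mul_assoc, mul_smul_comm, e1, e2, e3, e4, smul_zero]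
  match_scalars <;> field_simp <;> ring

end algebra

theorem neg_lt {r : ℕ} (hr : r < 72) : chevE6.neg r < 72 := by
  have h := (rankOne_ok r hr).1
  simp only [rankOneB, Bool.and_eq_true, decide_eq_true_eq] at h
  exact h.1.2

theorem em_triple' {r : ℕ} (hr : r < 72) :
    em F (chevE6.neg r) * em F r * em F (chevE6.neg r) = em F (chevE6.neg r) := by
  have := em_triple (F := F) (neg_lt hr)
  rwa [(rankOne_ok r hr).2] at this

/-- `h_r(t)` is diagonal on the two eigenspaces of the root. -/
theorem hm_eq {r : ℕ} (hr : r < 72) {t : F} (ht : t ≠ 0) :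
    hm r t = 1 + (t - 1) • (em F r * em F (chevE6.neg r)) + (t⁻¹ - 1) • (em F (chevE6.neg r) * em F r) := by
  simp only [hm, nm, xm]
  rw [n_alg (em_sq r) (em_sq _) (em_triple hr) (em_triple' hr) ht,
    n_alg (em_sq r) (em_sq _) (em_triple hr) (em_triple' hr) (by simp : (-1 : F) ≠ 0)]
  exact h_alg (em_sq r) (em_sq _) (em_triple hr) (em_triple' hr)

theorem hm_mul {r : ℕ} (hr : r < 72) {t u : F} (ht : t ≠ 0) (hu : u ≠ 0) : hm r t * hm r u = hm r (t * u) := by
  rw [hm_eq hr ht, hm_eq hr hu, hm_eq hr (mul_ne_zero ht hu)]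
  exact h_mul_alg (em_sq r) (em_sq _) (em_triple hr) (em_triple' hr) ht hu

/-- The homomorphism from the free group. -/
def freeMap (F : Type*) [Field F] : FreeGroup (Fin chevE6.nroots × F) →* GL I F :=
  FreeGroup.lift fun p => xu p.1.val p.2

theorem freeMap_stX (r : ℕ) (t : F) : freeMap F (chevE6.stX r t) = xu r t := by
  unfold ChevalleyDatum.stX freeMap
  split
  · rw [FreeGroup.lift_apply_of]
  · rename_i h
    rw [map_one, xu_out (by rw [nroots_E6] at h; omega)]

theorem freeMap_stWord (w : List (ℕ × F)) :
    ((freeMap F (chevE6.stWord w) : GL I F) : Matrix I I F) = (w.map fun p => xm p.1 p.2).prod := by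
  induction w with
  | nil => simp [ChevalleyDatum.stWord]
  | cons p w ih =>
    have : chevE6.stWord (p :: w) = chevE6.stX p.1 p.2 * chevE6.stWord w := rfl
    rw [this, map_mul, Units.val_mul, ih, freeMap_stX]
    rfl

theorem freeMap_stH (r : ℕ) (t : F) : ((freeMap F (chevE6.stH r t) : GL I F) : Matrix I I F) = hm r t := by
  rw [ChevalleyDatum.stH, freeMap_stWord]
  simp [ChevalleyDatum.hWord, ChevalleyDatum.nWord, hm, nm, mul_assoc]

theorem freeMap_rel : ∀ g ∈ chevE6.steinbergRels F, freeMap F g = 1 := by
  rintro g ((⟨r, t, u, hr, rfl⟩ | ⟨r, s, t, u, hr, hs, h₁, h₂, rfl⟩) | ⟨r, t, u, hr, ht, hu, rfl⟩)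
  · simp [freeMap_stX, xu_add]
  · rw [nroots_E6] at hr hs
    simp only [map_mul, map_inv, freeMap_stX]
    rw [mul_inv_eq_one]
    have e : xu s u * xu r t = xu r t * xu s u * freeMap F (chevE6.stWord (chevE6.commWord F r s t u)) := by
      apply Units.ext
      rw [Units.val_mul, Units.val_mul, Units.val_mul, freeMap_stWord]
      exact xm_comm (rel_ok r hr s hs h₁ h₂) t u
    rw [mul_assoc ((xu s u)⁻¹ * (xu r t)⁻¹), e]
    group
  · rw [nroots_E6] at hr
    simp only [map_mul, map_inv]
    rw [mul_inv_eq_one]
    apply Units.ext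
    rw [Units.val_mul, freeMap_stH, freeMap_stH, freeMap_stH, hm_mul hr ht hu]

/-- The representation of the Steinberg group. -/
def stMap (F : Type*) [Field F] : chevE6.SteinbergGroup F →* GL I F := PresentedGroup.toGroup freeMap_rel

/-- The group generated by the root elements. -/
def img (F : Type*) [Field F] : Subgroup (GL I F) := (stMap F).range

theorem stMap_mk (w : FreeGroup (Fin chevE6.nroots × F)) : stMap F (PresentedGroup.mk _ w) = freeMap F w := by
  have : (stMap F).comp (PresentedGroup.mk (chevE6.steinbergRels F)) = freeMap F :=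
    FreeGroup.ext_hom _ _ fun p => by
      show stMap F (PresentedGroup.of p) = _
      exact (PresentedGroup.toGroup.of freeMap_rel).trans (FreeGroup.lift_apply_of).symm
  exact DFunLike.congr_fun this w

theorem xu_mem (r : ℕ) (t : F) : xu r t ∈ img F := ⟨_, (stMap_mk _).trans (freeMap_stX r t)⟩

/-! ### The form -/

/-- The cubic form. -/
def T27 (v : I → F) : F := (mons.map fun m => (m.1 : F) * v m.2.1 * v m.2.2.1 * v m.2.2.2).sum

/-- Sorting three coordinates. -/
def srt (p : I × I × I) : I × I × I :=
  let a := p.1; let b := p.2.1; let c := p.2.2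
  if a ≤ b then if b ≤ c then (a, b, c) else if a ≤ c then (a, c, b) else (c, a, b)
  else if a ≤ c then (b, a, c) else if b ≤ c then (b, c, a) else (c, b, a)

/-- The two summands of a transformed coordinate. -/
def opts (r : ℕ) (a : I) : List (ℕ × ℤ × I) :=
  (0, 1, a) :: match row r a with
    | none => []
    | some (j, σ) => [(1, σ, j)]

/-- The expansion of the transformed form. -/
def terms (r : ℕ) : List (ℤ × ℕ × I × I × I) :=
  mons.flatMap fun m => (opts r m.2.1).flatMap fun A => (opts r m.2.2.1).flatMap fun B =>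
    (opts r m.2.2.2).map fun C => (m.1 * A.2.1 * B.2.1 * C.2.1, A.1 + B.1 + C.1, srt (A.2.2, B.2.2, C.2.2))

/-- Insertion of a term. -/
def addT (x : ℤ × ℕ × I × I × I) : List (ℤ × ℕ × I × I × I) → List (ℤ × ℕ × I × I × I)
  | [] => [x]
  | y :: l => if y.2 = x.2 then (y.1 + x.1, y.2) :: l else y :: addT x l

/-- The check of invariance. -/
def invB (r : ℕ) : Bool :=
  ((terms r).filter (fun x => x.2.1 == 0) == mons.map fun m => (m.1, 0, srt m.2)) &&
    (((terms r).filter (fun x => !(x.2.1 == 0))).foldr addT []).all (fun x => x.1 == 0)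

theorem inv_ok : ∀ r < 72, invB r = true := by decide +kernel

/-- The value of a term. -/
def val (t : F) (v : I → F) (x : ℤ × ℕ × I × I × I) : F :=
  (x.1 : F) * t ^ x.2.1 * v x.2.2.1 * v x.2.2.2.1 * v x.2.2.2.2

theorem val_srt (t : F) (v : I → F) (c : ℤ) (k : ℕ) (p : I × I × I) :
    val t v (c, k, srt p) = (c : F) * t ^ k * v p.1 * v p.2.1 * v p.2.2 := by
  obtain ⟨a, b, d⟩ := p
  simp only [srt, val]
  split_ifs <;> ring

theorem sum_addT (t : F) (v : I → F) (x : ℤ × ℕ × I × I × I) :
    ∀ l, ((addT x l).map (val t v)).sum = val t v x + (l.map (val t v)).sum := by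
  intro l
  induction l with
  | nil => simp [addT]
  | cons y l ih =>
    simp only [addT]
    split_ifs with h
    · simp only [List.map_cons, List.sum_cons, val, h, Int.cast_add]; ring
    · simp only [List.map_cons, List.sum_cons, ih]; ring

theorem mulVec_xm (r : ℕ) (t : F) (v : I → F) (a : I) :
    (xm r t *ᵥ v) a = ((opts r a).map fun A => (A.2.1 : F) * t ^ A.1 * v A.2.2).sum := by
  rw [xm, Matrix.add_mulVec, Matrix.one_mulVec, Matrix.smul_mulVec, Pi.add_apply, Pi.smul_apply]
  have e : (em F r *ᵥ v) a = ∑ j, ((coef (row r a) j : ℤ) : F) * v j := by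
    simp only [Matrix.mulVec, dotProduct, ← row_eq]
    rfl
  rw [e, opts]
  rcases h : row r a with _ | ⟨j, σ⟩
  · simp [coef]
  · rw [Finset.sum_eq_single j]
    · simp [coef]; ring
    · intro b _ hb; simp [coef, Ne.symm hb]
    · simp

theorem T27_xm (r : ℕ) (t : F) (v : I → F) : T27 (xm r t *ᵥ v) = T27 v := by
  by_cases hr : r < 72
  swap
  · have : xm r t = 1 := congrArg Units.val (xu_out (not_lt.1 hr) t)
    rw [this, Matrix.one_mulVec]
  have h := inv_ok r hr
  simp only [invB, Bool.and_eq_true, beq_iff_eq, List.all_eq_true] at h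
  have e1 : T27 (xm r t *ᵥ v) = ((terms r).map (val t v)).sum := by
    rw [T27, terms, List.map_flatMap, List.flatMap, List.sum_flatten, List.map_map]
    congr 1
    refine List.map_congr_left fun m _ => ?_
    simp only [Function.comp, mulVec_xm]
    generalize opts r m.2.1 = LA
    generalize opts r m.2.2.1 = LB
    generalize opts r m.2.2.2 = LC
    induction LA with
    | nil => simp
    | cons A LA ihA =>
      rw [List.map_cons, List.sum_cons, List.flatMap_cons, List.map_append, List.sum_append, ← ihA]
      have : (((LB.flatMap fun B => LC.map fun C =>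
          (m.1 * A.2.1 * B.2.1 * C.2.1, A.1 + B.1 + C.1, srt (A.2.2, B.2.2, C.2.2)))).map (val t v)).sum =
          (m.1 : F) * ((A.2.1 : F) * t ^ A.1 * v A.2.2) * (LB.map fun B => (B.2.1 : F) * t ^ B.1 * v B.2.2).sum *
            (LC.map fun C => (C.2.1 : F) * t ^ C.1 * v C.2.2).sum := by
        clear ihA
        induction LB with
        | nil => simp
        | cons B LB ihB =>
          rw [List.flatMap_cons, List.map_append, List.sum_append, ihB, List.map_cons (l := LB), List.sum_cons]
          have : ((LC.map fun C => (m.1 * A.2.1 * B.2.1 * C.2.1, A.1 + B.1 + C.1,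
              srt (A.2.2, B.2.2, C.2.2))).map (val t v)).sum =
              (m.1 : F) * ((A.2.1 : F) * t ^ A.1 * v A.2.2) * ((B.2.1 : F) * t ^ B.1 * v B.2.2) *
                (LC.map fun C => (C.2.1 : F) * t ^ C.1 * v C.2.2).sum := by
            rw [List.map_map]
            clear ihB
            induction LC with
            | nil => simp
            | cons C LC ihC =>
              simp only [List.map_cons, List.sum_cons, Function.comp_apply, ihC, val_srt]
              push_cast
              ring
          rw [this]; ring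
      rw [this]; ring
  have e2 : ∀ l : List (ℤ × ℕ × I × I × I), (l.map (val t v)).sum = ((l.foldr addT []).map (val t v)).sum := by
    intro l
    induction l with
    | nil => rfl
    | cons x l ih => rw [List.foldr_cons, sum_addT, ← ih, List.map_cons, List.sum_cons]
  have e3 : ∀ (l : List (ℤ × ℕ × I × I × I)) (p : ℤ × ℕ × I × I × I → Bool),
      (l.map (val t v)).sum = ((l.filter p).map (val t v)).sum + ((l.filter fun x => !p x).map (val t v)).sum := by
    intro l p
    induction l with
    | nil => simp
    | cons x l ih => cases hp : p x <;> simp [hp, ih] <;> ring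
  rw [e1, e3 (terms r) (fun x => x.2.1 == 0), h.1, e2 (List.filter _ _),
    List.sum_eq_zero (l := List.map _ (List.foldr _ _ _)) fun y hy => ?_, add_zero, T27, List.map_map]
  · congr 1
    refine List.map_congr_left fun m _ => ?_
    simp [val_srt]
  · obtain ⟨x, hx, rfl⟩ := List.mem_map.1 hy
    simp [val, h.2 x hx]

end Cfsg.Agent.E6Cubic
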