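/-
Elimination in the group of the cubic form.

* `pol`        : the polarised form and its invariance;
* `exists_diag` : up to a product of root elements an element preserving the form is diagonal.
-/
import Cfsg.Agent.Lib.E6Cubic.Rep

set_option autoImplicit false
set_option maxRecDepth 100000

namespace Cfsg.Agent.E6Cubic

open Cfsg.Lie Cfsg.Lie.ChevalleyDatum Matrix

/-- The pairs of coordinates completing a coordinate to a monomial. -/
def qy (y : I) : List (ℤ × I × I) :=
  mons.flatMap fun m => (if m.2.2.2 = y then [(m.1, m.2.1, m.2.2.1)] else []) ++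
    (if m.2.2.1 = y then [(m.1, m.2.1, m.2.2.2)] else []) ++ (if m.2.1 = y then [(m.1, m.2.2.1, m.2.2.2)] else [])

/-- The coordinates completing two coordinates to a monomial. -/
def pick (s y : I) : List (ℤ × I) :=
  (qy y).flatMap fun p => (if p.2.1 = s then [(p.1, p.2.2)] else []) ++ (if p.2.2 = s then [(p.1, p.2.1)] else [])

/-- The monomials have distinct coordinates. -/
theorem mons_ok : ∀ m ∈ mons, m.2.1 ≠ m.2.2.1 ∧ m.2.1 ≠ m.2.2.2 ∧ m.2.2.1 ≠ m.2.2.2 := by decide +kernel

theorem pick_ok : ∀ s a : I, pick s a = [] ∨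
    (pick s a).any (fun p => (p.1 == 1 || p.1 == -1) && decide ((pick s a).length = 1) &&
      decide (pick s p.2 = [(p.1, a)])) = true := by
  decide +kernel

theorem pick_pairs : ∀ m ∈ mons, pick m.2.1 m.2.2.2 = [(m.1, m.2.2.1)] ∧ pick m.2.1 m.2.2.1 ≠ [] ∧
    pick m.2.1 m.2.2.2 ≠ [] ∧ pick m.2.2.1 m.2.1 ≠ [] ∧ pick m.2.2.1 m.2.2.2 ≠ [] ∧
    pick m.2.2.2 m.2.1 ≠ [] ∧ pick m.2.2.2 m.2.2.1 ≠ [] ∧ (m.1 = 1 ∨ m.1 = -1) := by
  decide +kernel

variable {F : Type*} [Field F]

theorem unit_ne_zero {ε : ℤ} (h : ε = 1 ∨ ε = -1) : (ε : F) ≠ 0 := by rcases h with rfl | rfl <;> simp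

theorem exists_pick {s a : I} (h : pick s a ≠ []) :
    ∃ ε k, pick s a = [(ε, k)] ∧ pick s k = [(ε, a)] ∧ ((ε : F) ≠ 0) := by
  rcases pick_ok s a with h0 | h0
  · exact absurd h0 h
  simp only [List.any_eq_true, Bool.and_eq_true, Bool.or_eq_true, beq_iff_eq, decide_eq_true_eq] at h0
  obtain ⟨⟨ε, k⟩, hp, ⟨hε, hlen⟩, hk⟩ := h0
  obtain ⟨x, hx⟩ := List.length_eq_one_iff.1 hlen
  rw [hx, List.mem_singleton] at hp
  exact ⟨ε, k, by rw [hx, hp], hk, unit_ne_zero hε⟩

/-- The first derivative of the form. -/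
def pd (x y : I → F) : F :=
  (mons.map fun m => (m.1 : F) * (x m.2.1 * x m.2.2.1 * y m.2.2.2 + x m.2.1 * y m.2.2.1 * x m.2.2.2 +
    y m.2.1 * x m.2.2.1 * x m.2.2.2)).sum

/-- The polarised form. -/
def pol (x z y : I → F) : F := pd (x + z) y - pd x y - pd z y

/-- The basis vectors. -/
abbrev ev (F : Type*) [Field F] (s : I) : I → F := Pi.single s 1

theorem T27_add (x y : I → F) (s : F) :
    T27 (x + s • y) = T27 x + s * pd x y + s ^ 2 * pd y x + s ^ 3 * T27 y := by
  simp only [T27, pd]
  induction mons with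
  | nil => simp
  | cons m l ih =>
    simp only [List.map_cons, List.sum_cons]
    rw [ih]
    simp only [Pi.add_apply, Pi.smul_apply, smul_eq_mul]
    ring

theorem pol_eq (x z y : I → F) : pol x z y = (mons.map fun m => (m.1 : F) *
    (x m.2.1 * z m.2.2.1 * y m.2.2.2 + z m.2.1 * x m.2.2.1 * y m.2.2.2 + x m.2.1 * y m.2.2.1 * z m.2.2.2 +
      z m.2.1 * y m.2.2.1 * x m.2.2.2 + y m.2.1 * x m.2.2.1 * z m.2.2.2 +
      y m.2.1 * z m.2.2.1 * x m.2.2.2)).sum := by
  simp only [pol, pd]
  induction mons with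
  | nil => simp
  | cons m l ih =>
    simp only [List.map_cons, List.sum_cons]
    rw [← ih]
    simp only [Pi.add_apply]
    ring

theorem pol_comm (x z y : I → F) : pol x z y = pol x y z := by
  rw [pol_eq, pol_eq]
  exact congrArg List.sum (List.map_congr_left fun m _ => by ring)

theorem pd_single (v : I → F) (y : I) : pd v (ev F y) = ((qy y).map fun p => (p.1 : F) * v p.2.1 * v p.2.2).sum := by
  simp only [pd, qy]
  induction mons with
  | nil => simp
  | cons m l ih =>
    rw [List.flatMap_cons, List.map_cons, List.sum_cons, ih, List.map_append, List.sum_append, ev]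
    congr 1
    simp only [Pi.single_apply]
    split_ifs <;> simp <;> ring

theorem pd_basis (w : I) (z : I → F) : pd (ev F w) z = 0 := by
  refine List.sum_eq_zero fun x hx => ?_
  obtain ⟨m, hm, rfl⟩ := List.mem_map.1 hx
  obtain ⟨h1, h2, h3⟩ := mons_ok m hm
  simp only [ev, Pi.single_apply]
  split_ifs <;> simp_all

theorem pol_basis (s : I) (v : I → F) (y : I) :
    pol (ev F s) v (ev F y) = ((pick s y).map fun p => (p.1 : F) * v p.2).sum := by
  simp only [pol, pd_single, pick]
  induction qy y with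
  | nil => simp
  | cons p l ih =>
    rw [List.flatMap_cons, List.map_append, List.sum_append, ← ih]
    simp only [List.map_cons, List.sum_cons, Pi.add_apply, ev, Pi.single_apply]
    split_ifs <;> simp <;> ring

theorem pol_eq_zero {s : I} {v : I → F} (h : ∀ a, pick s a ≠ [] → v a = 0) (y : I → F) : pol (ev F s) v y = 0 := by
  rw [pol_eq]
  refine List.sum_eq_zero fun x hx => ?_
  obtain ⟨m, hm, rfl⟩ := List.mem_map.1 hx
  obtain ⟨-, h1, h2, h3, h4, h5, h6, -⟩ := pick_pairs m hm
  simp only [ev, Pi.single_apply]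
  split_ifs <;> simp_all

section invariance

variable (hF : ∃ a : F, a ≠ 0 ∧ a ≠ 1) {g : GL I F} (hg : ∀ v, T27 ((g : Matrix I I F) *ᵥ v) = T27 v)
include hF hg

theorem pd_inv (x y : I → F) : pd ((g : Matrix I I F) *ᵥ x) ((g : Matrix I I F) *ᵥ y) = pd x y := by
  obtain ⟨a, ha, ha1⟩ := hF
  have key : ∀ s : F, s * (pd ((g : Matrix I I F) *ᵥ x) ((g : Matrix I I F) *ᵥ y) - pd x y) +
      s ^ 2 * (pd ((g : Matrix I I F) *ᵥ y) ((g : Matrix I I F) *ᵥ x) - pd y x) = 0 := by
    intro s
    have h := hg (x + s • y)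
    rw [Matrix.mulVec_add, Matrix.mulVec_smul, T27_add, T27_add, hg, hg] at h
    linear_combination h
  have h1 := key 1
  have h2 := key a
  set d := pd ((g : Matrix I I F) *ᵥ x) ((g : Matrix I I F) *ᵥ y) - pd x y
  have h3 : a * (a - 1) * d = 0 := by linear_combination a ^ 2 * h1 - h2
  rcases mul_eq_zero.1 h3 with h3 | h3
  · exact absurd h3 (mul_ne_zero ha (sub_ne_zero.2 ha1))
  · exact sub_eq_zero.1 h3

theorem pol_inv (x z y : I → F) :
    pol ((g : Matrix I I F) *ᵥ x) ((g : Matrix I I F) *ᵥ z) ((g : Matrix I I F) *ᵥ y) = pol x z y := by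
  simp only [pol, ← Matrix.mulVec_add, pd_inv hF hg]

theorem pd_col (w y : I) : pd ((g : Matrix I I F) *ᵥ ev F w) (ev F y) = 0 := by
  have h := pd_inv hF hg (ev F w) (((g⁻¹ : GL I F) : Matrix I I F) *ᵥ ev F y)
  rwa [Matrix.mulVec_mulVec, ← Units.val_mul, mul_inv_cancel, Units.val_one, Matrix.one_mulVec, pd_basis] at h

end invariance

theorem pol_smul (c : F) (x z y : I → F) : pol (c • x) z y = c * pol x z y := by
  rw [pol_eq, pol_eq]
  induction mons with
  | nil => simp
  | cons m l ih =>
    simp only [List.map_cons, List.sum_cons]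
    rw [ih]
    simp only [Pi.smul_apply, smul_eq_mul]
    ring

theorem pol_smul₃ (c : F) (x z y : I → F) : pol x z (c • y) = c * pol x z y := by
  rw [pol_eq, pol_eq]
  induction mons with
  | nil => simp
  | cons m l ih =>
    simp only [List.map_cons, List.sum_cons]
    rw [ih]
    simp only [Pi.smul_apply, smul_eq_mul]
    ring

/-! ### The certificates -/

/-- A coordinate may be nonzero in the image of `w`, the lines of `S` being fixed. -/
def inA (S : List I) (w a : I) : Bool :=
  (S.all fun s => !((pick s w).isEmpty && !(pick s a).isEmpty)) &&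
    (a == w || S.all fun s => S.all fun t => !((pick s t).any fun p => p.2 == a))

/-- The root fixes the lines of `S`. -/
def fixB (S : List I) (r : ℕ) : Bool := S.all fun s => (col r s).isNone

/-- The moves are valid. -/
def movesB (S : List I) : List I → List (ℕ × ℕ × ℕ) → Bool
  | _, [] => true
  | known, (a, r, b) :: l =>
      known.contains (fI b) && fixB S r && ((row r (fI b)).map Prod.fst == some (fI a)) &&
        movesB S (fI a :: known) l

/-- The coordinates that can be moved to `w`. -/
def reachL (st : Step) : List I := fI st.w :: st.moves.map fun q => fI q.1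

/-- The rule for a nonzero coordinate is valid. -/
def ruleB (S : List I) (st : Step) : Bool :=
  let w := fI st.w
  match st.rule with
  | (0, s, t) => S.contains (fI s) && S.contains (fI t) && (pick (fI s) (fI t)).any (fun p => p.2 == w)
  | (1, _, _) => (List.finRange 27).all fun a => !(inA S w a) || (reachL st).contains a || S.contains a
  | (_, s, _) => S.contains (fI s) && !(pick (fI s) w).isEmpty &&
      (List.finRange 27).all fun a => !(inA S w a) || (pick (fI s) a).isEmpty || (reachL st).contains a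

/-- The coordinates cleared by roots. -/
def clrL (st : Step) : List I := st.clr.map fun q => fI q.1

/-- A coordinate known to vanish. -/
def deadB (S : List I) (st : Step) (a : I) : Bool := (clrL st).contains a || !(inA S (fI st.w) a)

/-- The clearing and the use of the quadratic equations are valid. -/
def clearB (S : List I) (st : Step) : Bool :=
  let w := fI st.w
  decide (clrL st).Nodup && (st.clr.all fun q => fixB S q.2 && ((row q.2 (fI q.1)).map Prod.fst == some w) &&
    (row q.2 w).isNone && (clrL st).all fun i => i == fI q.1 || (row q.2 i).isNone) &&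
  (List.finRange 27).all fun f => f == w || deadB S st f || (pick w f).any fun p =>
    ((qy p.2).filter fun e => !(deadB S st e.2.1) && !(deadB S st e.2.2)).map Prod.snd == [(w, f)] ||
    ((qy p.2).filter fun e => !(deadB S st e.2.1) && !(deadB S st e.2.2)).map Prod.snd == [(f, w)]

/-- A step is valid. -/
def stepB (S : List I) (st : Step) : Bool :=
  !(S.contains (fI st.w)) && movesB S [fI st.w] st.moves && ruleB S st && clearB S st

/-- All steps are valid and reach every coordinate. -/
def allB : List I → List Step → Bool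
  | S, [] => (List.finRange 27).all fun a => S.contains a
  | S, st :: l => stepB S st && allB (fI st.w :: S) l

theorem steps_ok : allB [] steps = true := by decide +kernel

/-- A product of root elements fixing the lines of `S`. -/
def Fix (S : List I) (u : GL I F) : Prop := u ∈ img F ∧ ∀ s ∈ S, (u : Matrix I I F) *ᵥ ev F s = ev F s

theorem Fix.one (S : List I) : Fix S (1 : GL I F) := ⟨one_mem _, fun s _ => by rw [Units.val_one, Matrix.one_mulVec]⟩

theorem Fix.mul {S : List I} {u v : GL I F} (hu : Fix S u) (hv : Fix S v) : Fix S (u * v) :=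
  ⟨mul_mem hu.1 hv.1, fun s hs => by rw [Units.val_mul, ← Matrix.mulVec_mulVec, hv.2 s hs, hu.2 s hs]⟩

theorem fix_xu {S : List I} {r : ℕ} (h : fixB S r = true) (t : F) : Fix S (xu r t) := by
  refine ⟨xu_mem r t, fun s hs => ?_⟩
  simp only [fixB, List.all_eq_true, Option.isNone_iff_eq_none] at h
  show xm r t *ᵥ ev F s = _
  rw [Matrix.mulVec_single_one]
  funext i
  rw [Matrix.col_apply, xm, Matrix.add_apply, Matrix.smul_apply, em, RingHom.mapMatrix_apply, Matrix.map_apply,
    emZ, Matrix.of_apply, h s hs, coef, map_zero, smul_zero, add_zero, Matrix.one_apply, ev, Pi.single_apply]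

theorem xm_apply {r : ℕ} {b a : I} {σ : ℤ} (h : row r b = some (a, σ)) (t : F) (v : I → F) :
    (xm r t *ᵥ v) b = v b + t * σ * v a := by
  rw [mulVec_xm, opts, h]
  simp only [List.map_cons, List.map_nil, List.sum_cons, List.sum_nil]
  push_cast
  ring

theorem xm_apply_none {r : ℕ} {b : I} (h : row r b = none) (t : F) (v : I → F) : (xm r t *ᵥ v) b = v b := by
  rw [mulVec_xm, opts, h]
  simp

theorem row_unit {r : ℕ} {b a : I} {σ : ℤ} (h : row r b = some (a, σ)) : σ ≠ 0 ∧ (σ : F) ≠ 0 := by
  unfold row at h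
  split at h
  · have hn := col_ne (p := (a, σ)) h
    have hu : σ = 1 ∨ σ = -1 := by
      unfold col at h
      dsimp only at h
      split at h
      · cases h
      · cases h
        split_ifs <;> simp
    exact ⟨hn, unit_ne_zero hu⟩
  · cases h

theorem movesB_sound {S : List I} {w : I} : ∀ (l : List (ℕ × ℕ × ℕ)) (known : List I), movesB S known l = true →
    (∀ a ∈ known, ∀ v : I → F, v a ≠ 0 → ∃ u : GL I F, Fix S u ∧ ((u : Matrix I I F) *ᵥ v) w ≠ 0) →
    ∀ a ∈ known ++ l.map (fun q => fI q.1), ∀ v : I → F, v a ≠ 0 →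
      ∃ u : GL I F, Fix S u ∧ ((u : Matrix I I F) *ᵥ v) w ≠ 0 := by
  intro l
  induction l with
  | nil => intro known _ hk a ha; exact hk a (by simpa using ha)
  | cons q l ih =>
    obtain ⟨a', r, b⟩ := q
    intro known h hk a ha
    simp only [movesB, Bool.and_eq_true, List.contains_iff_mem, beq_iff_eq, Option.map_eq_some_iff] at h
    obtain ⟨⟨⟨hb, hfix⟩, ⟨⟨a'', σ⟩, hrow, rfl⟩⟩, hl⟩ := h
    refine ih (fI a' :: known) hl ?_ a (by simp at ha ⊢; tauto)
    intro c hc v hv
    rcases List.mem_cons.1 hc with rfl | hc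
    · by_cases hvb : v (fI b) = 0
      · obtain ⟨u, hu, hw⟩ := hk _ hb (xm r 1 *ᵥ v) (by
          rw [xm_apply hrow, hvb, zero_add, one_mul]
          exact mul_ne_zero (row_unit hrow).2 hv)
        exact ⟨u * xu r 1, hu.mul (fix_xu hfix 1), by rwa [Units.val_mul, ← Matrix.mulVec_mulVec]⟩
      · exact hk _ hb v hvb
    · exact hk c hc v hv

theorem clear_sound {S : List I} {w : I} {all : List I} : ∀ (l : List (ℕ × ℕ)),
    (∀ q ∈ l, fixB S q.2 = true ∧ (row q.2 (fI q.1)).map Prod.fst = some w ∧ row q.2 w = none ∧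
      ∀ i ∈ all, i = fI q.1 ∨ row q.2 i = none) →
    (l.map fun q => fI q.1).Nodup → (∀ q ∈ l, fI q.1 ∈ all) → ∀ v : I → F, v w ≠ 0 →
    ∃ u : GL I F, Fix S u ∧ ((u : Matrix I I F) *ᵥ v) w = v w ∧ (∀ q ∈ l, ((u : Matrix I I F) *ᵥ v) (fI q.1) = 0) ∧
      ∀ i ∈ all, i ∉ l.map (fun q => fI q.1) → ((u : Matrix I I F) *ᵥ v) i = v i := by
  intro l
  induction l with
  | nil => intro _ _ _ v _; exact ⟨1, Fix.one S, by simp, by simp, fun i _ _ => by simp⟩
  | cons q l ih =>
    intro h hnd hall v hv
    rw [List.map_cons, List.nodup_cons] at hnd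
    obtain ⟨u, hu, huw, huz, hur⟩ := ih (fun p hp => h p (List.mem_cons_of_mem _ hp)) hnd.2
      (fun p hp => hall p (List.mem_cons_of_mem _ hp)) v hv
    obtain ⟨hfix, hrow, hroww, hother⟩ := h q List.mem_cons_self
    obtain ⟨⟨w', σ⟩, hrow', hw'⟩ := Option.map_eq_some_iff.1 hrow
    dsimp only at hw'
    subst hw'
    clear hrow
    rename' hrow' => hrow
    set v' := (u : Matrix I I F) *ᵥ v
    have hσ := (row_unit (F := F) hrow).2
    refine ⟨xu q.2 (-(v' (fI q.1)) / (σ * v' w')) * u, (fix_xu hfix _).mul hu, ?_, ?_, ?_⟩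
    · rw [Units.val_mul, ← Matrix.mulVec_mulVec]
      exact (xm_apply_none hroww _ _).trans huw
    · intro p hp
      rw [Units.val_mul, ← Matrix.mulVec_mulVec]
      by_cases e : fI p.1 = fI q.1
      · show (xm _ _ *ᵥ v') _ = 0
        rw [e, xm_apply hrow, huw]
        field_simp
        ring
      · have hp' : p ∈ l := (List.mem_cons.1 hp).resolve_left fun h' => e (by rw [h'])
        have hn := (hother _ (hall p hp)).resolve_left e
        exact (xm_apply_none hn _ _).trans (huz p hp')
    · intro i hi hil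
      rw [List.map_cons, List.mem_cons, not_or] at hil
      rw [Units.val_mul, ← Matrix.mulVec_mulVec]
      exact (xm_apply_none ((hother i hi).resolve_left hil.1) _ _).trans (hur i hi hil.2)

/-- `g` fixes the lines of `S`. -/
def Lines (S : List I) (g : GL I F) : Prop :=
  ∀ s ∈ S, ∃ c : F, c ≠ 0 ∧ (g : Matrix I I F) *ᵥ ev F s = c • ev F s

variable (hF : ∃ a : F, a ≠ 0 ∧ a ≠ 1)

theorem pres_img {u : GL I F} (hu : u ∈ img F) (v : I → F) : T27 ((u : Matrix I I F) *ᵥ v) = T27 v := by
  obtain ⟨x, rfl⟩ := hu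
  let P : Subgroup (GL I F) :=
    { carrier := {g | ∀ v, T27 ((g : Matrix I I F) *ᵥ v) = T27 v}
      one_mem' := fun v => by simp
      mul_mem' := fun {a b} ha hb v => by rw [Units.val_mul, ← Matrix.mulVec_mulVec, ha, hb]
      inv_mem' := fun {a} ha v => by
        rw [← ha (((a⁻¹ : GL I F) : Matrix I I F) *ᵥ v), Matrix.mulVec_mulVec, ← Units.val_mul, mul_inv_cancel,
          Units.val_one, Matrix.one_mulVec] }
  suffices h : (stMap F).range ≤ P from h ⟨x, rfl⟩ v
  rw [MonoidHom.range_eq_map, ← PresentedGroup.closure_range_of, MonoidHom.map_closure, Subgroup.closure_le]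
  rintro _ ⟨_, ⟨⟨r, t⟩, rfl⟩, rfl⟩
  have e : stMap F (PresentedGroup.of (r, t)) = xu r.val t :=
    (stMap_mk _).trans (FreeGroup.lift_apply_of)
  intro v
  rw [e]
  exact T27_xm r.val t v

include hF

theorem col_inA {S : List I} {g : GL I F} (hg : ∀ v, T27 ((g : Matrix I I F) *ᵥ v) = T27 v) (hS : Lines S g)
    (w : I) {a : I} (ha : inA S w a = false) : ((g : Matrix I I F) *ᵥ ev F w) a = 0 := by
  rcases Bool.and_eq_false_iff.1 ha with h | h
  · obtain ⟨s, hs, h⟩ := List.all_eq_false.1 h
    obtain ⟨hsw, hsa⟩ : pick s w = [] ∧ pick s a ≠ [] := by simpa using h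
    obtain ⟨c, hc, e⟩ := hS s hs
    obtain ⟨ε, k, -, hk, hε⟩ := exists_pick (F := F) hsa
    have h1 : pol (ev F s) ((g : Matrix I I F) *ᵥ ev F w) (ev F k) = (ε : F) * ((g : Matrix I I F) *ᵥ ev F w) a := by
      rw [pol_basis, hk]; simp
    have h2 := pol_inv hF hg (ev F s) (ev F w) (((g⁻¹ : GL I F) : Matrix I I F) *ᵥ ev F k)
    rw [Matrix.mulVec_mulVec, ← Units.val_mul, mul_inv_cancel, Units.val_one, Matrix.one_mulVec, e, pol_smul, h1,
      pol_comm (ev F s) (ev F w), pol_basis, hsw] at h2
    simpa [hc, hε] using h2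
  · obtain ⟨haw, s, hs, t, ht, p, hp, hpa⟩ :
        a ≠ w ∧ ∃ s ∈ S, ∃ t ∈ S, ∃ p ∈ pick s t, p.2 = a := by simpa using h
    obtain ⟨c, hc, e⟩ := hS s hs
    obtain ⟨c', hc', e'⟩ := hS t ht
    obtain ⟨ε, k, hst, -, hε⟩ := exists_pick (F := F) (List.ne_nil_of_mem hp)
    rw [hst, List.mem_singleton] at hp
    subst hp
    obtain rfl : k = a := hpa
    have h2 := pol_inv hF hg (ev F s) (ev F w) (ev F t)
    rw [e, e', pol_smul, pol_smul₃, pol_basis, pol_basis, hst] at h2
    simpa [hc, hc', hε, ev, Ne.symm (Ne.symm haw)] using h2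

theorem exists_nonzero {S : List I} {g : GL I F} (hg : ∀ v, T27 ((g : Matrix I I F) *ᵥ v) = T27 v)
    (hS : Lines S g) {st : Step} (hr : ruleB S st = true) (hw : fI st.w ∉ S) :
    ∃ a ∈ reachL st, ((g : Matrix I I F) *ᵥ ev F (fI st.w)) a ≠ 0 := by
  set w := fI st.w with hwdef
  set v := (g : Matrix I I F) *ᵥ ev F w with hv
  by_contra hne
  push Not at hne
  have hrest : ∀ a, inA S w a = false → v a = 0 := fun a ha => col_inA hF hg hS w ha
  unfold ruleB at hr
  dsimp only at hr
  split at hr
  · rename_i s t _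
    simp only [Bool.and_eq_true, List.contains_iff_mem, List.any_eq_true, beq_iff_eq] at hr
    obtain ⟨⟨hs, ht⟩, p, hp, hpw⟩ := hr
    obtain ⟨c, hc, e⟩ := hS _ hs
    obtain ⟨c', hc', e'⟩ := hS _ ht
    obtain ⟨ε, k, hst, -, hε⟩ := exists_pick (F := F) (List.ne_nil_of_mem hp)
    rw [hst, List.mem_singleton] at hp
    subst hp
    have h2 := pol_inv hF hg (ev F (fI s)) (ev F w) (ev F (fI t))
    rw [e, e', pol_smul, pol_smul₃, pol_basis, pol_basis, hst] at h2
    have h0 := hne w (by simp [reachL, hwdef])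
    rw [hv] at h0
    simp only [List.map_cons, List.map_nil, List.sum_cons, List.sum_nil, add_zero] at h2
    rw [show k = w from hpw, h0] at h2
    simp [ev] at h2
    exact hε h2.symm
  · simp only [List.all_eq_true, Bool.or_eq_true, Bool.not_eq_true', List.contains_iff_mem] at hr
    have hz : ∀ a, a ∉ S → v a = 0 := fun a ha => by
      rcases hr a (List.mem_finRange a) with (h | h) | h
      exacts [hrest a h, hne a h, absurd h ha]
    classical
    choose c hc e using hS
    let z : I → F := fun a => if h : a ∈ S then v a / c a h else 0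
    have hgz : (g : Matrix I I F) *ᵥ z = v := by
      have : z = ∑ a ∈ S.toFinset, z a • ev F a := by
        funext i
        rw [Finset.sum_apply]
        by_cases hi : i ∈ S
        · rw [Finset.sum_eq_single i] <;> simp_all [ev]
        · rw [Finset.sum_eq_zero fun b hb => ?_]
          · simp [z, hi]
          · have : i ≠ b := fun h => hi (h ▸ List.mem_toFinset.1 hb)
            simp [ev, this]
      rw [this, Matrix.mulVec_sum]
      funext i
      rw [Finset.sum_apply]
      by_cases hi : i ∈ S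
      · rw [Finset.sum_eq_single i]
        · rw [Matrix.mulVec_smul, e i hi]
          simp [z, hi, ev, div_mul_cancel₀ _ (hc i hi)]
        · intro b hb hbi
          rw [Matrix.mulVec_smul, e b (List.mem_toFinset.1 hb)]
          simp [ev, Ne.symm hbi]
        · intro h; exact absurd (List.mem_toFinset.2 hi) h
      · rw [hz i hi, Finset.sum_eq_zero fun b hb => ?_]
        have : i ≠ b := fun h => hi (h ▸ List.mem_toFinset.1 hb)
        rw [Matrix.mulVec_smul, e b (List.mem_toFinset.1 hb)]
        simp [ev, this]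
    have h := congrArg (((g⁻¹ : GL I F) : Matrix I I F) *ᵥ ·) hgz
    simp only [hv, Matrix.mulVec_mulVec, ← Units.val_mul, inv_mul_cancel, Units.val_one, Matrix.one_mulVec] at h
    have h' := congrFun h w
    simp [z, hw, ev] at h'
  · rename_i s t _ _ _
    simp only [Bool.and_eq_true, List.contains_iff_mem, List.all_eq_true, Bool.or_eq_true, Bool.not_eq_true',
      List.isEmpty_iff, List.isEmpty_eq_false_iff] at hr
    obtain ⟨⟨hs, hsw⟩, hall⟩ := hr
    obtain ⟨c, hc, e⟩ := hS _ hs
    obtain ⟨ε, k, hk1, hk2, hε⟩ := exists_pick (F := F) hsw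
    have hz : ∀ a, pick (fI s) a ≠ [] → v a = 0 := fun a ha => by
      rcases hall a (List.mem_finRange a) with (h | h) | h
      exacts [hrest a h, absurd h ha, hne a h]
    have h2 := pol_inv hF hg (ev F (fI s)) (ev F w) (ev F k)
    rw [e, pol_smul, pol_eq_zero hz, mul_zero, pol_comm, pol_basis, hk1] at h2
    simp [ev] at h2
    exact hε h2.symm

theorem step_sound {S : List I} {st : Step} (h : stepB S st = true) {g : GL I F}
    (hg : ∀ v, T27 ((g : Matrix I I F) *ᵥ v) = T27 v) (hS : Lines S g) :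
    ∃ u ∈ img F, Lines (fI st.w :: S) (u * g) := by
  simp only [stepB, Bool.and_eq_true, Bool.not_eq_true'] at h
  obtain ⟨⟨⟨hw, hm⟩, hr⟩, hcl⟩ := h
  have hw' : fI st.w ∉ S := fun hmem => by simp [hmem] at hw
  set w := fI st.w with hwdef
  obtain ⟨a, ha, hva⟩ := exists_nonzero hF hg hS hr hw'
  have key : ∀ {u : GL I F}, Fix S u → Lines S (u * g) ∧
      ∀ v, T27 (((u * g : GL I F) : Matrix I I F) *ᵥ v) = T27 v := fun {u} hu =>
    ⟨fun s hs => by
      obtain ⟨c, hc, e⟩ := hS s hs
      exact ⟨c, hc, by rw [Units.val_mul, ← Matrix.mulVec_mulVec, e, Matrix.mulVec_smul, hu.2 s hs]⟩,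
    fun v => by rw [Units.val_mul, ← Matrix.mulVec_mulVec, pres_img hu.1, hg]⟩
  obtain ⟨u₁, hu₁, hw₁⟩ := movesB_sound (F := F) (w := w) st.moves [w] hm
    (fun b hb v hv => ⟨1, Fix.one S, by simpa using (List.mem_singleton.1 hb) ▸ hv⟩) a
    (by simpa [reachL, hwdef] using ha) _ hva
  simp only [clearB, Bool.and_eq_true, decide_eq_true_eq, List.all_eq_true, Bool.or_eq_true, beq_iff_eq,
    Option.isNone_iff_eq_none, List.any_eq_true] at hcl
  obtain ⟨⟨hnd, hclr⟩, hfar⟩ := hcl
  obtain ⟨u₂, hu₂, hw₂, hz, -⟩ := clear_sound (F := F) (w := w) (all := clrL st) st.clr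
    (fun q hq => ⟨(hclr q hq).1.1.1, (hclr q hq).1.1.2, (hclr q hq).1.2, (hclr q hq).2⟩) hnd
    (fun q hq => List.mem_map_of_mem hq) _ hw₁
  set v := ((u₂ * u₁ * g : GL I F) : Matrix I I F) *ᵥ ev F w with hv
  obtain ⟨hS', hg'⟩ := key (hu₂.mul hu₁)
  have hvw : v w ≠ 0 := by
    simp only [hv, Units.val_mul, ← Matrix.mulVec_mulVec]
    rw [hw₂]; exact hw₁
  have hdead : ∀ b, deadB S st b = true → v b = 0 := by
    intro b hb
    simp only [deadB, Bool.or_eq_true, List.contains_iff_mem, Bool.not_eq_true'] at hb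
    rcases hb with hb | hb
    · obtain ⟨q, hq, rfl⟩ := List.mem_map.1 hb
      simp only [hv, Units.val_mul, ← Matrix.mulVec_mulVec]
      exact hz q hq
    · exact col_inA hF hg' hS' w hb
  have hzero : ∀ f, f ≠ w → v f = 0 := by
    intro f hf
    rcases hfar f (List.mem_finRange f) with (h | h) | ⟨p, -, h⟩
    · exact absurd h hf
    · exact hdead f h
    · have h0 : ((qy p.2).map fun e => (e.1 : F) * v e.2.1 * v e.2.2).sum = 0 := by
        rw [← pd_single]; exact pd_col hF hg' w p.2
      have hsplit : ∀ l : List (ℤ × I × I), (l.map fun e => (e.1 : F) * v e.2.1 * v e.2.2).sum =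
          ((l.filter fun e => !(deadB S st e.2.1) && !(deadB S st e.2.2)).map
            fun e => (e.1 : F) * v e.2.1 * v e.2.2).sum := by
        intro l
        induction l with
        | nil => rfl
        | cons e l ih =>
          rw [List.filter_cons, List.map_cons, List.sum_cons, ih]
          split_ifs with hd
          · rfl
          · simp only [Bool.and_eq_true, Bool.not_eq_true', not_and_or, Bool.not_eq_false] at hd
            rcases hd with hd | hd <;> simp [hdead _ hd]
      rw [hsplit] at h0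
      have hne : ∀ e ∈ qy p.2, (e.1 : F) ≠ 0 := by
        intro e he
        simp only [qy, List.mem_flatMap] at he
        obtain ⟨m, hm, he⟩ := he
        obtain ⟨-, -, -, -, -, -, -, hε⟩ := pick_pairs m hm
        have : e.1 = m.1 := by
          simp only [List.mem_append] at he
          rcases he with (he | he) | he <;> split_ifs at he <;> simp_all
        rw [this]; exact unit_ne_zero hε
      generalize hL : (qy p.2).filter (fun e => !(deadB S st e.2.1) && !(deadB S st e.2.2)) = L at h h0
      have hsub : ∀ e ∈ L, e ∈ qy p.2 := fun e he => by rw [← hL] at he; exact (List.mem_filter.1 he).1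
      rcases L with _ | ⟨⟨ε, x, y⟩, _ | ⟨e', L⟩⟩
      · simp at h
      · have hε := hne _ (hsub _ List.mem_cons_self)
        simp only [List.map_cons, List.map_nil, List.sum_cons, List.sum_nil, add_zero, mul_eq_zero, hε,
          false_or] at h0
        simp only [List.map_cons, List.map_nil, List.cons.injEq, and_true, Prod.mk.injEq] at h
        rcases h with ⟨rfl, rfl⟩ | ⟨rfl, rfl⟩
        · exact h0.resolve_left hvw
        · exact h0.resolve_right hvw
      · simp at h
  refine ⟨u₂ * u₁, (hu₂.mul hu₁).1, fun s hs => ?_⟩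
  rcases List.mem_cons.1 hs with rfl | hs
  · refine ⟨v w, hvw, funext fun i => ?_⟩
    show v i = _
    by_cases hi : i = w
    · subst hi; simp [ev]
    · simp [ev, hi, hzero i hi]
  · exact hS' s hs

theorem exists_diag {g : GL I F} (hg : ∀ v, T27 ((g : Matrix I I F) *ᵥ v) = T27 v) :
    ∃ u ∈ img F, ∀ s, ∃ c : F, c ≠ 0 ∧ ((u * g : GL I F) : Matrix I I F) *ᵥ ev F s = c • ev F s := by
  have key : ∀ (l : List Step) (S : List I) (g : GL I F), allB S l = true →
      (∀ v, T27 ((g : Matrix I I F) *ᵥ v) = T27 v) → Lines S g →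
      ∃ u ∈ img F, ∀ s, ∃ c : F, c ≠ 0 ∧ ((u * g : GL I F) : Matrix I I F) *ᵥ ev F s = c • ev F s := by
    intro l
    induction l with
    | nil =>
      intro S g h _ hS
      simp only [allB, List.all_eq_true, List.contains_iff_mem] at h
      exact ⟨1, one_mem _, fun s => by simpa using hS s (h s (List.mem_finRange s))⟩
    | cons st l ih =>
      intro S g h hg hS
      simp only [allB, Bool.and_eq_true] at h
      obtain ⟨u, hu, hS'⟩ := step_sound hF h.1 hg hS
      obtain ⟨u', hu', h'⟩ := ih _ (u * g) h.2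
        (fun v => by rw [Units.val_mul, ← Matrix.mulVec_mulVec, pres_img hu, hg]) hS'
      exact ⟨u' * u, mul_mem hu' hu, by simpa [mul_assoc] using h'⟩
  exact key steps [] g steps_ok hg fun s hs => absurd hs List.not_mem_nil

end Cfsg.Agent.E6Cubic
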