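/-
Diagonal elements in the group of the cubic form.

* `diag_mem` : a diagonal element preserving the form is a product of the `h_r(t)` of the simple roots;
* `mem_img`  : the group generated by the root elements is the group of the form.
-/
import Cfsg.Agent.Lib.E6Cubic.Stab

set_option autoImplicit false
set_option maxRecDepth 100000

namespace Cfsg.Agent.E6Cubic

open Cfsg.Lie Cfsg.Lie.ChevalleyDatum Matrix

/-- The simple roots. -/
def sr (i : Fin 6) : ℕ := chevE6.simple i.val

/-- The weight of a coordinate at a fundamental coroot. -/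
def lam (j : I) (i : Fin 6) : ℤ :=
  if (row (sr i) j).isSome then 1 else if (col (sr i) j).isSome then -1 else 0

/-- The multiplicity of a coordinate in a formal combination. -/
def cnt (E : List (ℤ × I)) (x : I) : ℤ := (E.map fun p => if p.2 = x then p.1 else 0).sum

/-- A monomial by number. -/
def monN (k : ℕ) : ℤ × I × I × I := mons.getD k (0, 0, 0, 0)

/-- The monomials in the certificate of a coordinate. -/
def tri (j : I) : List (ℤ × I) :=
  (triadCert.getD j.val []).flatMap fun q => [(q.2, (monN q.1).2.1), (q.2, (monN q.1).2.2.1), (q.2, (monN q.1).2.2.2)]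

/-- The omega combinations in the certificate of a coordinate. -/
def omg (j : I) : List (ℤ × I) :=
  (List.finRange 6).flatMap fun i => (omegaList.getD i.val []).map fun q => (lam j i * q.2, fI q.1)

theorem cert_ok : ∀ j x : I, cnt (tri j ++ omg j) x = if x = j then 1 else 0 := by decide +kernel

theorem tri_ok : ∀ j : I, ∀ q ∈ triadCert.getD j.val [], q.1 < mons.length := by decide +kernel

theorem torus_ok : ∀ i : Fin 6, sr i < 72 ∧ ∀ j : I,
    comp (sr i) (chevE6.neg (sr i)) j = (if (row (sr i) j).isSome then some (j, 1) else none) ∧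
    comp (chevE6.neg (sr i)) (sr i) j = (if (col (sr i) j).isSome then some (j, 1) else none) ∧
    ¬ ((row (sr i) j).isSome ∧ (col (sr i) j).isSome) := by
  decide +kernel

theorem monN_mem {k : ℕ} (h : k < mons.length) : monN k ∈ mons := by
  rw [monN, List.getD_eq_getElem _ _ h]
  exact List.getElem_mem h

theorem sum_cnt {A : Type*} [AddCommGroup A] (l : I → A) : ∀ E : List (ℤ × I),
    (E.map fun p => p.1 • l p.2).sum = ∑ x, cnt E x • l x := by
  intro E
  induction E with
  | nil => simp [cnt]
  | cons p E ih =>
    simp only [List.map_cons, List.sum_cons, ih, cnt, add_smul, Finset.sum_add_distrib]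
    congr 1
    simp [ite_smul]

/-- A function on the coordinates that vanishes on the monomials is given by six values. -/
theorem exists_omega {A : Type*} [AddCommGroup A] {l : I → A}
    (hl : ∀ m ∈ mons, l m.2.1 + l m.2.2.1 + l m.2.2.2 = 0) :
    ∃ μ : Fin 6 → A, ∀ j, l j = ∑ i, lam j i • μ i := by
  refine ⟨fun i => ((omegaList.getD i.val []).map fun q => q.2 • l (fI q.1)).sum, fun j => ?_⟩
  have h := sum_cnt l (tri j ++ omg j)
  simp only [cert_ok, ite_smul, one_smul, zero_smul, Finset.sum_ite_eq', Finset.mem_univ, if_true] at h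
  rw [← h, List.map_append, List.sum_append]
  have ht : ((tri j).map fun p => p.1 • l p.2).sum = 0 := by
    rw [tri, List.map_flatMap, List.flatMap, List.sum_flatten, List.map_map]
    refine List.sum_eq_zero fun x hx => ?_
    obtain ⟨q, hq, rfl⟩ := List.mem_map.1 hx
    simp only [Function.comp_apply, List.map_cons, List.map_nil, List.sum_cons, List.sum_nil, add_zero, ← add_assoc,
      ← smul_add, hl _ (monN_mem (tri_ok j q hq)), smul_zero]
  rw [ht, zero_add, omg, List.map_flatMap, List.flatMap, List.sum_flatten, List.map_map, Fin.sum_univ_def]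
  refine congrArg List.sum (List.map_congr_left fun i _ => ?_)
  rw [Function.comp_apply, List.map_map, List.smul_sum, List.map_map]
  simp only [Function.comp_def, mul_smul]

variable {F : Type*} [Field F]

theorem hm_diag (i : Fin 6) (t : Fˣ) :
    hm (sr i) (t : F) = Matrix.diagonal fun j => ((t ^ lam j i : Fˣ) : F) := by
  obtain ⟨hlt, h⟩ := torus_ok i
  rw [hm_eq hlt t.ne_zero, em, em, ← map_mul, ← map_mul]
  ext a j
  simp only [Matrix.add_apply, Matrix.smul_apply, RingHom.mapMatrix_apply, Matrix.map_apply,
    emZ_mul, (h j).1, (h j).2.1, Matrix.one_apply, Matrix.diagonal_apply, smul_eq_mul]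
  by_cases e : a = j
  · subst e
    have h3 := (h a).2.2
    by_cases hr : (row (sr i) a).isSome <;> by_cases hc : (col (sr i) a).isSome <;>
      simp_all [lam, coef] <;> ring
  · by_cases hr : (row (sr i) j).isSome <;> by_cases hc : (col (sr i) j).isSome <;>
      simp_all [coef, Ne.symm e]

theorem diag_mem {c : I → Fˣ} (hc : ∀ m ∈ mons, c m.2.1 * c m.2.2.1 * c m.2.2.2 = 1) :
    ∃ u ∈ img F, ((u : GL I F) : Matrix I I F) = Matrix.diagonal fun j => ((c j : Fˣ) : F) := by
  obtain ⟨μ, hμ⟩ := exists_omega (l := fun j => Additive.ofMul (c j)) fun m hm => by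
    simpa [← ofMul_mul] using hc m hm
  refine ⟨((List.finRange 6).map fun i => freeMap F (chevE6.stH (sr i) ((μ i).toMul : F))).prod, ?_, ?_⟩
  · refine list_prod_mem fun x hx => ?_
    obtain ⟨i, -, rfl⟩ := List.mem_map.1 hx
    exact ⟨_, stMap_mk _⟩
  rw [← Units.coeHom_apply, map_list_prod, List.map_map]
  have : (Units.coeHom (Matrix I I F)) ∘ (fun i => freeMap F (chevE6.stH (sr i) ((μ i).toMul : F))) =
      (Matrix.diagonalRingHom I F) ∘ fun i j => (((μ i).toMul ^ lam j i : Fˣ) : F) := by
    funext i
    simp only [Function.comp_apply, Units.coeHom_apply, freeMap_stH, hm_diag]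
    rfl
  rw [this, ← List.map_map, ← map_list_prod]
  show Matrix.diagonal _ = _
  congr 1
  funext j
  rw [Pi.list_prod_apply, List.map_map]
  have e : c j = ∏ i, (μ i).toMul ^ lam j i := by
    have := congrArg Additive.toMul (hμ j)
    simpa [toMul_sum] using this
  rw [e, ← Fin.prod_univ_def]
  simp

/-- The group of the form is generated by the root elements. -/
theorem mem_img (hF : ∃ a : F, a ≠ 0 ∧ a ≠ 1) {g : GL I F} :
    g ∈ img F ↔ ∀ v, T27 ((g : Matrix I I F) *ᵥ v) = T27 v := by
  refine ⟨fun h => pres_img h, fun hg => ?_⟩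
  obtain ⟨u, hu, hd⟩ := exists_diag hF hg
  choose c hc he using hd
  have hug : ∀ v, T27 (((u * g : GL I F) : Matrix I I F) *ᵥ v) = T27 v := fun v => by
    rw [Units.val_mul, ← Matrix.mulVec_mulVec, pres_img hu, hg]
  have hm : ∀ m ∈ mons, (Units.mk0 _ (hc m.2.1)) * (Units.mk0 _ (hc m.2.2.1)) * (Units.mk0 _ (hc m.2.2.2)) = 1 := by
    intro m hm
    obtain ⟨hp, -, -, -, -, -, -, hε⟩ := pick_pairs m hm
    have h := pol_inv hF hug (ev F m.2.1) (ev F m.2.2.1) (ev F m.2.2.2)
    rw [he, he, he, pol_smul, pol_smul₃, pol_comm, pol_smul₃, pol_comm, pol_basis, hp] at h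
    ext
    simp only [List.map_cons, List.map_nil, List.sum_cons, List.sum_nil, add_zero, ev, Pi.single_eq_same,
      mul_one] at h
    simp only [Units.val_mul, Units.val_mk0, Units.val_one]
    refine mul_right_cancel₀ (unit_ne_zero (F := F) hε) ?_
    linear_combination h
  obtain ⟨d, hd, e⟩ := diag_mem (c := fun j => Units.mk0 (c j) (hc j)) hm
  have : u * g = d := by
    refine Units.ext ?_
    rw [e]
    ext a j
    have := congrFun (he j) a
    rw [Matrix.mulVec_single_one, Matrix.col_apply] at this
    rw [this, Matrix.diagonal_apply]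
    by_cases h : a = j
    · subst h; simp [ev]
    · simp [ev, h]
  have : g = u⁻¹ * d := by rw [← this, inv_mul_cancel_left]
  rw [this]
  exact mul_mem (inv_mem hu) hd

end Cfsg.Agent.E6Cubic
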