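/-
The group of the cubic form in 27 variables modulo its centre is the Chevalley group of type E6.
-/
import Cfsg.Prelude.Def_E6
import Cfsg.Prelude.Def_LieChev
import Cfsg.Agent.Lib.E6Cubic.Torus
import Cfsg.Agent.Lib.Chev.All
import Cfsg.Agent.Lib.ChevBN.RootTables
import Cfsg.Agent.Lib.ChevBN.Data
import Cfsg.Agent.Lib.ChevSt.Centre
import Cfsg.Agent.Lib.ChevSt.Extra
import Cfsg.Agent.S1054

set_option autoImplicit false
set_option maxRecDepth 100000

namespace Cfsg.Agent.E6Cubic

open Cfsg.Lie Cfsg.Lie.ChevalleyDatum Matrix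

/-- The numbering of the coordinates. -/
def idx : I ≃ I27 where
  toFun n := (⟨n.val / 9, by omega⟩, ⟨n.val / 3 % 3, by omega⟩, ⟨n.val % 3, by omega⟩)
  invFun p := fI (9 * p.1.val + 3 * p.2.1.val + p.2.2.val)
  left_inv := by decide
  right_inv := by decide

theorem idx_symm (k i j : Fin 3) : idx.symm (k, i, j) = fI (9 * k.val + 3 * i.val + j.val) := rfl

variable {F : Type*} [Field F]

theorem cubicT_eq (v : I → F) : cubicT (v ∘ idx.symm) = T27 v := by
  simp only [cubicT, T27, mons, monList, List.map_cons, List.map_nil, List.sum_cons, List.sum_nil,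
    Matrix.det_fin_three, Matrix.trace_fin_three, Matrix.mul_apply, Fin.sum_univ_three, mat3, Matrix.of_apply,
    Function.comp_apply, idx_symm]
  norm_num [Fin.val_zero, Fin.val_one, Fin.val_two]
  ring

/-- Renumbering of the general linear group. -/
def glMap (F : Type*) [Field F] : GL I F ≃* GL I27 F :=
  Units.mapEquiv (Matrix.reindexAlgEquiv F F idx).toMulEquiv

theorem glMap_mulVec (g : GL I F) (v : I27 → F) :
    ((glMap F g : GL I27 F) : Matrix I27 I27 F) *ᵥ v = ((g : Matrix I I F) *ᵥ (v ∘ idx)) ∘ idx.symm := by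
  show Matrix.reindex idx idx (g : Matrix I I F) *ᵥ v = _
  rw [Matrix.reindex_apply, Matrix.submatrix_mulVec_equiv]
  rfl

theorem glMap_mem (hF : ∃ a : F, a ≠ 0 ∧ a ≠ 1) (g : GL I F) : glMap F g ∈ E6univ F ↔ g ∈ img F := by
  rw [mem_img hF]
  show (∀ v, cubicT (((glMap F g : GL I27 F) : Matrix I27 I27 F) *ᵥ v) = cubicT v) ↔ _
  simp only [glMap_mulVec, cubicT_eq]
  constructor
  · intro h v
    have e := h (v ∘ idx.symm)
    rwa [Function.comp_assoc, idx.symm_comp_self, Function.comp_id, cubicT_eq] at e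
  · intro h v
    rw [h, ← cubicT_eq, Function.comp_assoc, idx.self_comp_symm, Function.comp_id]

theorem not_commute :
    ¬ Commute (xu (sr 0) (1 : F)) (xu (chevE6.neg (sr 0)) (1 : F)) := by
  intro h
  have h' := congrArg Units.val h.eq
  rw [Units.val_mul, Units.val_mul] at h'
  change xm (sr 0) (1 : F) * xm (chevE6.neg (sr 0)) (1 : F) = xm (chevE6.neg (sr 0)) (1 : F) * xm (sr 0) (1 : F) at h'
  simp only [xm, one_smul, add_mul, mul_add, one_mul, mul_one] at h'
  have he : em F (sr 0) * em F (chevE6.neg (sr 0)) = em F (chevE6.neg (sr 0)) * em F (sr 0) := by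
    linear_combination (norm := abel) h'
  rw [em, em, ← map_mul, ← map_mul] at he
  obtain ⟨j, hj⟩ : ∃ j, (row (sr 0) j).isSome := by decide +kernel
  obtain ⟨h1, h2, h3⟩ := (torus_ok 0).2 j
  have he' := congrFun (congrFun he j) j
  simp only [RingHom.mapMatrix_apply, Matrix.map_apply, emZ_mul, h1, h2, hj, if_true] at he'
  have h4 : (col (sr 0) j).isSome = false := by simpa [hj] using h3
  simp [h4, coef] at he'

theorem e6_iso (hF : ∃ a : F, a ≠ 0 ∧ a ≠ 1) : Nonempty (Cfsg.Lie.E6 F ≃* ↥(chevE6.group F)) := by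
  obtain ⟨ψ, hψ, hker, -⟩ := ChevSt.steinberg_center Chev.DataE6.good ChevBN.rootsE6
    (fun _ hi => ChevSt.exists_decomp chevE6 (by simp) hi) (F := F)
  have hsimple := (Cfsg.Agent.S1054.result (F := F) chevE6 (by simp)).1
  let f : chevE6.SteinbergGroup F →* ↥(E6univ F) :=
    ((glMap F).toMonoidHom.comp (stMap F)).codRestrict _ fun x => (glMap_mem hF _).2 ⟨x, rfl⟩
  have hf : Function.Surjective f := fun g => by
    obtain ⟨x, hx⟩ : (glMap F).symm g.1 ∈ img F := (glMap_mem hF _).1 (by simp)
    exact ⟨x, Subtype.ext (show glMap F (stMap F x) = g.1 by rw [hx, MulEquiv.apply_symm_apply])⟩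
  let q : chevE6.SteinbergGroup F →* Cfsg.Lie.E6 F := (QuotientGroup.mk' _).comp f
  have hq : Function.Surjective q := (QuotientGroup.mk'_surjective _).comp hf
  have hle : ψ.ker ≤ q.ker := by
    intro z hz
    rw [hker, Subgroup.mem_center_iff] at hz
    rw [MonoidHom.mem_ker, MonoidHom.comp_apply, QuotientGroup.mk'_apply, QuotientGroup.eq_one_iff,
      Subgroup.mem_center_iff]
    intro g
    obtain ⟨a, rfl⟩ := hf g
    rw [← map_mul, ← map_mul, hz a]
  have hkq : q.ker = ψ.ker := by
    rcases hsimple.eq_bot_or_eq_top_of_normal _ (q.normal_ker.map ψ hψ) with h | h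
    · exact le_antisymm ((Subgroup.map_eq_bot_iff _).1 h) hle
    · exfalso
      have htop : q.ker = ⊤ := by
        rw [← Subgroup.comap_map_eq_self hle, h, Subgroup.comap_top]
      refine not_commute (F := F) ?_
      have hc : ∀ x, f x ∈ Subgroup.center ↥(E6univ F) := fun x => by
        have : x ∈ q.ker := htop ▸ Subgroup.mem_top x
        rwa [MonoidHom.mem_ker, MonoidHom.comp_apply, QuotientGroup.mk'_apply, QuotientGroup.eq_one_iff] at this
      obtain ⟨a, ha⟩ := xu_mem (sr 0) (1 : F)
      obtain ⟨b, hb⟩ := xu_mem (chevE6.neg (sr 0)) (1 : F)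
      have e : glMap F (stMap F b) * glMap F (stMap F a) = glMap F (stMap F a) * glMap F (stMap F b) :=
        congrArg Subtype.val (Subgroup.mem_center_iff.1 (hc a) (f b))
      rw [ha, hb, ← map_mul, ← map_mul] at e
      exact ((glMap F).injective e).symm
  exact ⟨(QuotientGroup.quotientKerEquivOfSurjective q hq).symm.trans
    ((QuotientGroup.quotientMulEquivOfEq hkq).trans (QuotientGroup.quotientKerEquivOfSurjective ψ hψ))⟩

end Cfsg.Agent.E6Cubic
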